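import Mathlib
import Groth.Prelude.Def_ModSite
import Groth.Agent.Lib.Helper17.Tensor

/-!
Tensor products of globally generated / globally presented sheaves of modules on a small ringed
site with commutative structure sheaf.
-/

open CategoryTheory CategoryTheory.Limits Opposite

universe u

noncomputable section

namespace Groth.Agent.Lib.Helper2.TensPerm

open Groth.Agent.Lib.Helper17.IHom Groth.Agent.Lib.Helper17.Tensor

variable {C : Type u} [SmallCategory C] {J : GrothendieckTopology C} {O : Sheaf J CommRingCat.{u}}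

/-- `free I ⊗ N ≅ ∐_I N` -/
def freeTensIso (I : Type u) (N : ModSite.Mod O) :
    tens (SheafOfModules.free (R := ModSite.ringSh O) I) N ≅ ∐ fun _ : I => N :=
  PreservesCoproduct.iso ((ModSite.tensorBi O).flip.obj N) (fun _ : I => ModSite.unit O) ≪≫
    Sigma.mapIso (fun _ => tensorUnitIso N)

/-- `∐_I free J ≅ free (I × J)` -/
def sigmaFreeIso (I K : Type u) :
    (∐ fun _ : I => SheafOfModules.free (R := ModSite.ringSh O) K) ≅
      SheafOfModules.free (R := ModSite.ringSh O) (I × K) :=
  have h1 : ∀ _ : I, HasCoproduct (fun _ : K => ModSite.unit O) := fun _ => inferInstance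
  have h2 : HasCoproduct (fun _ : I => ∐ fun _ : K => ModSite.unit O) := inferInstance
  (@sigmaSigmaIso _ _ I (fun _ : I => K) (fun (_ : I) (_ : K) => ModSite.unit O) h1 h2) ≪≫
    (Sigma.whiskerEquiv (f := fun _ : (Σ _ : I, K) => ModSite.unit O)
      (g := fun _ : I × K => ModSite.unit O) (Equiv.sigmaEquivProd I K) (fun _ => Iso.refl _) :
      _ ≅ ∐ fun _ : I × K => ModSite.unit O)

/-- `free I ⊗ free K ≅ free (I × K)` -/
def freeTensorIso (I K : Type u) :
    tens (SheafOfModules.free (R := ModSite.ringSh O) I)
      (SheafOfModules.free (R := ModSite.ringSh O) K) ≅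
      SheafOfModules.free (R := ModSite.ringSh O) (I × K) :=
  freeTensIso I _ ≪≫ sigmaFreeIso I K

instance obj_preservesFiniteColimits (M : ModSite.Mod O) :
    PreservesFiniteColimits ((ModSite.tensorBi O).obj M) :=
  PreservesColimitsOfSize.preservesFiniteColimits _

instance epi_tensR {M M' : ModSite.Mod O} (f : M ⟶ M') [Epi f] (N : ModSite.Mod O) :
    Epi (tensR f N) :=
  inferInstanceAs (Epi (((ModSite.tensorBi O).flip.obj N).map f))

instance epi_tensL (M : ModSite.Mod O) {N N' : ModSite.Mod O} (g : N ⟶ N') [Epi g] :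
    Epi (tensL M g) :=
  inferInstanceAs (Epi (((ModSite.tensorBi O).obj M).map g))

instance isIso_tensR {M M' : ModSite.Mod O} (f : M ⟶ M') [IsIso f] (N : ModSite.Mod O) :
    IsIso (tensR f N) :=
  inferInstanceAs (IsIso (((ModSite.tensorBi O).flip.obj N).map f))

instance isIso_tensL (M : ModSite.Mod O) {N N' : ModSite.Mod O} (g : N ⟶ N') [IsIso g] :
    IsIso (tensL M g) :=
  inferInstanceAs (IsIso (((ModSite.tensorBi O).obj M).map g))

/-- the tensor product of two morphisms -/
def tensMap {M M' N N' : ModSite.Mod O} (f : M ⟶ M') (g : N ⟶ N') : tens M N ⟶ tens M' N' :=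
  tensR f N ≫ tensL M' g

lemma tensR_tensL {M M' N N' : ModSite.Mod O} (f : M ⟶ M') (g : N ⟶ N') :
    tensR f N ≫ tensL M' g = tensL M g ≫ tensR f N' :=
  ((ModSite.tensorBi O).map f).naturality g |>.symm

instance epi_tensMap {M M' N N' : ModSite.Mod O} (f : M ⟶ M') (g : N ⟶ N') [Epi f] [Epi g] :
    Epi (tensMap f g) := by
  unfold tensMap
  infer_instance

instance isIso_tensMap {M M' N N' : ModSite.Mod O} (f : M ⟶ M') (g : N ⟶ N') [IsIso f] [IsIso g] :
    IsIso (tensMap f g) := by
  unfold tensMap
  infer_instance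

variable {M N : ModSite.Mod O}

/-- the canonical map `free (I × K) ⟶ M ⊗ N` attached to generating sections -/
def genMap (σ : SheafOfModules.GeneratingSections M) (τ : SheafOfModules.GeneratingSections N) :
    SheafOfModules.free (R := ModSite.ringSh O) (σ.I × τ.I) ⟶ tens M N :=
  (freeTensorIso σ.I τ.I).inv ≫ tensMap σ.π τ.π

instance epi_genMap (σ : SheafOfModules.GeneratingSections M)
    (τ : SheafOfModules.GeneratingSections N) : Epi (genMap σ τ) := by
  unfold genMap
  infer_instance

/-- generating sections of a tensor product -/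
def tensorGen (σ : SheafOfModules.GeneratingSections M) (τ : SheafOfModules.GeneratingSections N) :
    SheafOfModules.GeneratingSections (tens M N) where
  I := σ.I × τ.I
  s := (tens M N).freeHomEquiv (genMap σ τ)
  epi := by
    rw [Equiv.symm_apply_apply]
    infer_instance

lemma tensorGen_π (σ : SheafOfModules.GeneratingSections M)
    (τ : SheafOfModules.GeneratingSections N) : (tensorGen σ τ).π = genMap σ τ :=
  Equiv.symm_apply_apply _ _

instance tensorGen_isFiniteType (σ : SheafOfModules.GeneratingSections M)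
    (τ : SheafOfModules.GeneratingSections N) [σ.IsFiniteType] [τ.IsFiniteType] :
    (tensorGen σ τ).IsFiniteType where
  finite := inferInstanceAs (Finite (σ.I × τ.I))

lemma isIso_tensorGen_π (σ : SheafOfModules.GeneratingSections M)
    (τ : SheafOfModules.GeneratingSections N) [IsIso σ.π] [IsIso τ.π] :
    IsIso (tensorGen σ τ).π := by
  rw [tensorGen_π]
  unfold genMap
  have h1 : IsIso (tensMap σ.π τ.π) := isIso_tensMap σ.π τ.π
  exact IsIso.comp_isIso

section Cokernel

variable {A₁ A₀ M' B₁ B₀ N' : ModSite.Mod O} (a : A₁ ⟶ A₀) (π : A₀ ⟶ M') (wa : a ≫ π = 0)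
  (ha : IsColimit (CokernelCofork.ofπ π wa))
  (b : B₁ ⟶ B₀) (ρ : B₀ ⟶ N') (wb : b ≫ ρ = 0) (hb : IsColimit (CokernelCofork.ofπ ρ wb))

include ha hb in
/-- right exactness of the tensor product in both variables -/
lemma exists_desc_tens {Z : ModSite.Mod O} (h : tens A₀ B₀ ⟶ Z) (h1 : tensR a B₀ ≫ h = 0)
    (h2 : tensL A₀ b ≫ h = 0) : ∃ d : tens M' N' ⟶ Z, tensMap π ρ ≫ d = h := by
  have hπ : Epi π := epi_of_isColimit_cofork ha
  have c1 := CokernelCofork.mapIsColimit _ ha ((ModSite.tensorBi O).flip.obj B₀)
  obtain ⟨l1, hl1⟩ := CokernelCofork.IsColimit.desc' c1 h h1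
  have hl1' : tensR π B₀ ≫ l1 = h := hl1
  have c2 := CokernelCofork.mapIsColimit _ hb ((ModSite.tensorBi O).obj M')
  have h3 : tensL M' b ≫ l1 = 0 := by
    rw [← cancel_epi (tensR π B₁), ← Category.assoc, tensR_tensL, Category.assoc, hl1', h2,
      comp_zero]
  obtain ⟨l2, hl2⟩ := CokernelCofork.IsColimit.desc' c2 l1 h3
  have hl2' : tensL M' ρ ≫ l2 = l1 := hl2
  refine ⟨l2, ?_⟩
  unfold tensMap
  rw [Category.assoc, hl2', hl1']

end Cokernel

lemma tensR_comp {M M' M'' : ModSite.Mod O} (f : M ⟶ M') (g : M' ⟶ M'') (N : ModSite.Mod O) :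
    tensR (f ≫ g) N = tensR f N ≫ tensR g N :=
  ((ModSite.tensorBi O).flip.obj N).map_comp f g

lemma tensL_comp (M : ModSite.Mod O) {N N' N'' : ModSite.Mod O} (f : N ⟶ N') (g : N' ⟶ N'') :
    tensL M (f ≫ g) = tensL M f ≫ tensL M g :=
  ((ModSite.tensorBi O).obj M).map_comp f g

lemma tensR_zero (M M' N : ModSite.Mod O) : tensR (0 : M ⟶ M') N = 0 :=
  ((ModSite.tensorBi O).flip.obj N).map_zero _ _

lemma tensL_zero (M N N' : ModSite.Mod O) : tensL M (0 : N ⟶ N') = 0 :=
  ((ModSite.tensorBi O).obj M).map_zero _ _

section Pres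

variable {M N : ModSite.Mod O} (P : SheafOfModules.Presentation M)
  (Q : SheafOfModules.Presentation N)

/-- the relations map of a presentation -/
def relMap : SheafOfModules.free (R := ModSite.ringSh O) P.relations.I ⟶
    SheafOfModules.free (R := ModSite.ringSh O) P.generators.I :=
  (SheafOfModules.freeHomEquiv _).symm P.relations.s ≫ kernel.ι P.generators.π

lemma relMap_π : relMap P ≫ P.generators.π = 0 := by
  simp [relMap]

/-- the generators map of a presentation is a cokernel of the relations map -/
def relIsColimit : IsColimit (CokernelCofork.ofπ P.generators.π (relMap_π P)) := P.isColimit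

/-- first family of relations of the tensor product -/
def fA : SheafOfModules.free (R := ModSite.ringSh O) (P.relations.I × Q.generators.I) ⟶
    SheafOfModules.free (R := ModSite.ringSh O) (P.generators.I × Q.generators.I) :=
  (freeTensorIso P.relations.I Q.generators.I).inv ≫ tensR (relMap P) _ ≫
    (freeTensorIso P.generators.I Q.generators.I).hom

/-- second family of relations of the tensor product -/
def fB : SheafOfModules.free (R := ModSite.ringSh O) (P.generators.I × Q.relations.I) ⟶
    SheafOfModules.free (R := ModSite.ringSh O) (P.generators.I × Q.generators.I) :=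
  (freeTensorIso P.generators.I Q.relations.I).inv ≫ tensL _ (relMap Q) ≫
    (freeTensorIso P.generators.I Q.generators.I).hom

/-- the relations of the tensor product -/
def fRel : SheafOfModules.free (R := ModSite.ringSh O)
      ((P.relations.I × Q.generators.I) ⊕ (P.generators.I × Q.relations.I)) ⟶
    SheafOfModules.free (R := ModSite.ringSh O) (P.generators.I × Q.generators.I) :=
  (SheafOfModules.freeSumIso (R := ModSite.ringSh O) _ _).inv ≫ coprod.desc (fA P Q) (fB P Q)

lemma comp_hom_inv_comp {A B B' D E : ModSite.Mod O} (x : A ⟶ B) (y : B ⟶ D) (e : D ≅ E)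
    (z : D ⟶ B') : (x ≫ y ≫ e.hom) ≫ (e.inv ≫ z) = x ≫ y ≫ z := by
  simp

lemma fA_genMap : fA P Q ≫ genMap P.generators Q.generators = 0 := by
  have h : tensR (relMap P) _ ≫ tensMap P.generators.π Q.generators.π = 0 := by
    unfold tensMap
    rw [← Category.assoc, ← tensR_comp, relMap_π, tensR_zero, zero_comp]
  refine (comp_hom_inv_comp _ _ _ _).trans ?_
  rw [h, comp_zero]

lemma fB_genMap : fB P Q ≫ genMap P.generators Q.generators = 0 := by
  have h : tensL _ (relMap Q) ≫ tensMap P.generators.π Q.generators.π = 0 := by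
    unfold tensMap
    rw [← Category.assoc, ← tensR_tensL, Category.assoc, ← tensL_comp, relMap_π, tensL_zero,
      comp_zero]
  refine (comp_hom_inv_comp _ _ _ _).trans ?_
  rw [h, comp_zero]

lemma fRel_genMap : fRel P Q ≫ genMap P.generators Q.generators = 0 := by
  unfold fRel
  rw [Category.assoc]
  have : coprod.desc (fA P Q) (fB P Q) ≫ genMap P.generators Q.generators = 0 := by
    apply coprod.hom_ext
    · exact (coprod.inl_desc_assoc _ _ _).trans ((fA_genMap P Q).trans comp_zero.symm)
    · exact (coprod.inr_desc_assoc _ _ _).trans ((fB_genMap P Q).trans comp_zero.symm)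
  rw [this, comp_zero]

lemma fA_comp_of_fRel_comp {Z : ModSite.Mod O}
    (k : SheafOfModules.free (R := ModSite.ringSh O) (P.generators.I × Q.generators.I) ⟶ Z)
    (hk : fRel P Q ≫ k = 0) : fA P Q ≫ k = 0 ∧ fB P Q ≫ k = 0 := by
  have h0 : coprod.desc (fA P Q) (fB P Q) ≫ k = 0 := by
    have := congrArg (fun t => (SheafOfModules.freeSumIso (R := ModSite.ringSh O) _ _).hom ≫ t) hk
    simpa [fRel] using this
  constructor
  · have h1 := congrArg (fun t => (coprod.inl : SheafOfModules.free (R := ModSite.ringSh O)
      (P.relations.I × Q.generators.I) ⟶ _ ⨿ SheafOfModules.free (R := ModSite.ringSh O)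
      (P.generators.I × Q.relations.I)) ≫ t) h0
    exact (coprod.inl_desc_assoc _ _ _).symm.trans (h1.trans comp_zero)
  · have h1 := congrArg (fun t => (coprod.inr : SheafOfModules.free (R := ModSite.ringSh O)
      (P.generators.I × Q.relations.I) ⟶ SheafOfModules.free (R := ModSite.ringSh O)
      (P.relations.I × Q.generators.I) ⨿ _) ≫ t) h0
    exact (coprod.inr_desc_assoc _ _ _).symm.trans (h1.trans comp_zero)

/-- the tensor product generators map is a cokernel of the tensor product relations -/
def tensIsColimit :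
    IsColimit (CokernelCofork.ofπ (genMap P.generators Q.generators) (fRel_genMap P Q)) :=
  CokernelCofork.IsColimit.ofπ' _ _ (fun {Z} k hk => by
    obtain ⟨hA, hB⟩ := fA_comp_of_fRel_comp P Q k hk
    have h1 : tensR (relMap P) _ ≫ (freeTensorIso P.generators.I Q.generators.I).hom ≫ k = 0 := by
      have := congrArg (fun t => (freeTensorIso P.relations.I Q.generators.I).hom ≫ t) hA
      simpa [fA] using this
    have h2 : tensL _ (relMap Q) ≫ (freeTensorIso P.generators.I Q.generators.I).hom ≫ k = 0 := by
      have := congrArg (fun t => (freeTensorIso P.generators.I Q.relations.I).hom ≫ t) hB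
      simpa [fB] using this
    have hd := exists_desc_tens (relMap P) P.generators.π (relMap_π P) (relIsColimit P)
      (relMap Q) Q.generators.π (relMap_π Q) (relIsColimit Q)
      ((freeTensorIso P.generators.I Q.generators.I).hom ≫ k) h1 h2
    refine ⟨hd.choose, ?_⟩
    unfold genMap
    rw [Category.assoc, hd.choose_spec, Iso.inv_hom_id_assoc])

/-- a presentation of a tensor product -/
def tensorPres : SheafOfModules.Presentation (tens M N) :=
  SheafOfModules.presentationOfIsCokernelFree (fRel P Q) (genMap P.generators Q.generators)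
    (fRel_genMap P Q) (tensIsColimit P Q)

instance tensorPres_isFinite [P.IsFinite] [Q.IsFinite] : (tensorPres P Q).IsFinite where
  isFiniteType_generators :=
    ⟨inferInstanceAs (Finite (P.generators.I × Q.generators.I))⟩
  isFiniteType_relations :=
    ⟨inferInstanceAs (Finite ((P.relations.I × Q.generators.I) ⊕ (P.generators.I × Q.relations.I)))⟩

end Pres

end Groth.Agent.Lib.Helper2.TensPerm
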