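import Mathlib
import Groth.Agent.Lib.Helper2.TensPerm.Global

/-!
Restriction of generating sections and presentations of sheaves of modules on a topological
space to smaller opens, and the permanence of local properties under tensor products.
-/

open CategoryTheory CategoryTheory.Limits Opposite TopologicalSpace

universe u

noncomputable section

namespace Groth.Agent.Lib.Helper2.TensPerm

section Restr

variable {X : TopCat.{u}} {R : Sheaf (Opens.grothendieckTopology X) RingCat.{u}}
  (M : SheafOfModules.{u} R) {U W : Opens X} (f : W ⟶ U)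

/-- restriction of generating sections to a smaller open -/
def restrGen (σ : SheafOfModules.GeneratingSections (M.over U)) :
    SheafOfModules.GeneratingSections (M.over W) :=
  (σ.map (SheafOfModules.overMap.{u} R f) (SheafOfModules.overMapUnitIso.{u} f).symm).ofEpi
    ((SheafOfModules.overFunctorMap.{u} R f).hom.app M)

lemma restrGen_I (σ : SheafOfModules.GeneratingSections (M.over U)) :
    (restrGen M f σ).I = σ.I := rfl

instance restrGen_isFiniteType (σ : SheafOfModules.GeneratingSections (M.over U))
    [σ.IsFiniteType] : (restrGen M f σ).IsFiniteType := by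
  unfold restrGen
  infer_instance

lemma isIso_restrGen_π (σ : SheafOfModules.GeneratingSections (M.over U)) [IsIso σ.π] :
    IsIso (restrGen M f σ).π := by
  unfold restrGen
  rw [SheafOfModules.GeneratingSections.ofEpi_π]
  have h1 : IsIso (σ.map (SheafOfModules.overMap.{u} R f)
      (SheafOfModules.overMapUnitIso.{u} f).symm).π := by
    rw [SheafOfModules.GeneratingSections.map_π_eq]
    have h3 : IsIso ((SheafOfModules.overMap.{u} R f).map σ.π) := Functor.map_isIso _ _
    exact IsIso.comp_isIso' inferInstance h3
  have h2 : IsIso ((SheafOfModules.overFunctorMap.{u} R f).hom.app M) := inferInstance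
  exact IsIso.comp_isIso' h1 h2

/-- restriction of a presentation to a smaller open -/
def restrPres (P : SheafOfModules.Presentation (M.over U)) :
    SheafOfModules.Presentation (M.over W) :=
  (P.map (SheafOfModules.overMap.{u} R f) (SheafOfModules.overMapUnitIso.{u} f).symm).ofIsIso
    ((SheafOfModules.overFunctorMap.{u} R f).hom.app M)

instance restrPres_isFinite (P : SheafOfModules.Presentation (M.over U)) [P.IsFinite] :
    (restrPres M f P).IsFinite := by
  have : (P.map (SheafOfModules.overMap.{u} R f)
      (SheafOfModules.overMapUnitIso.{u} f).symm).IsFinite :=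
    { isFiniteType_generators := ⟨inferInstanceAs (Finite P.generators.I)⟩
      isFiniteType_relations := ⟨inferInstanceAs (Finite P.relations.I)⟩ }
  unfold restrPres
  infer_instance

end Restr

section Perm

open Groth.Agent.Lib.Helper17.IHom Groth.Agent.Lib.Helper17.Tensor

variable {X : TopCat.{u}} {O : Sheaf (Opens.grothendieckTopology X) CommRingCat.{u}}
  (F G : ModSite.Mod O)

lemma coversTop_inf {ι ι' : Type u} (Uf : ι → Opens X) (Vf : ι' → Opens X)
    (hU : (Opens.grothendieckTopology X).CoversTop Uf)
    (hV : (Opens.grothendieckTopology X).CoversTop Vf) :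
    (Opens.grothendieckTopology X).CoversTop (fun p : ι × ι' => Uf p.1 ⊓ Vf p.2) := by
  intro W x hx
  obtain ⟨W1, f1, ⟨i, ⟨k1⟩⟩, hx1⟩ := hU W x hx
  obtain ⟨W2, f2, ⟨j, ⟨k2⟩⟩, hx2⟩ := hV W x hx
  exact ⟨W1 ⊓ W2, homOfLE (inf_le_left.trans (leOfHom f1)), ⟨(i, j),
    ⟨homOfLE (inf_le_inf (leOfHom k1) (leOfHom k2))⟩⟩, ⟨hx1, hx2⟩⟩

/-- generating sections of the restriction of a tensor product -/
def tensOverGen {U V : Opens X} (σ : SheafOfModules.GeneratingSections (F.over U))
    (τ : SheafOfModules.GeneratingSections (G.over V)) :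
    SheafOfModules.GeneratingSections ((tens F G).over (U ⊓ V)) :=
  (tensorGen (O := O.over (U ⊓ V)) (M := (ModSite.restr O (U ⊓ V)).obj F)
    (N := (ModSite.restr O (U ⊓ V)).obj G)
    (restrGen F (homOfLE inf_le_left) σ) (restrGen G (homOfLE inf_le_right) τ)).ofEpi
    (restrTensorIso (U ⊓ V) F G).inv

/-- presentation of the restriction of a tensor product -/
def tensOverPres {U V : Opens X} (P : SheafOfModules.Presentation (F.over U))
    (Q : SheafOfModules.Presentation (G.over V)) :
    SheafOfModules.Presentation ((tens F G).over (U ⊓ V)) :=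
  (tensorPres (O := O.over (U ⊓ V)) (M := (ModSite.restr O (U ⊓ V)).obj F)
    (N := (ModSite.restr O (U ⊓ V)).obj G)
    (restrPres F (homOfLE inf_le_left) P) (restrPres G (homOfLE inf_le_right) Q)).ofIsIso
    (restrTensorIso (U ⊓ V) F G).inv

lemma tensOverGen_isFiniteType {U V : Opens X} (σ : SheafOfModules.GeneratingSections (F.over U))
    (τ : SheafOfModules.GeneratingSections (G.over V)) [σ.IsFiniteType] [τ.IsFiniteType] :
    (tensOverGen F G σ τ).IsFiniteType :=
  ⟨show Finite (σ.I × τ.I) from inferInstance⟩

lemma isIso_tensOverGen_π {U V : Opens X} (σ : SheafOfModules.GeneratingSections (F.over U))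
    (τ : SheafOfModules.GeneratingSections (G.over V)) [IsIso σ.π] [IsIso τ.π] :
    IsIso (tensOverGen F G σ τ).π := by
  have h1 := isIso_restrGen_π F (homOfLE (inf_le_left : U ⊓ V ≤ U)) σ
  have h2 := isIso_restrGen_π G (homOfLE (inf_le_right : U ⊓ V ≤ V)) τ
  have h3 := @isIso_tensorGen_π _ _ _ (O.over (U ⊓ V)) ((ModSite.restr O (U ⊓ V)).obj F)
    ((ModSite.restr O (U ⊓ V)).obj G)
    (restrGen F (homOfLE inf_le_left) σ) (restrGen G (homOfLE inf_le_right) τ) h1 h2
  have e : (tensOverGen F G σ τ).π =
      (tensorGen (O := O.over (U ⊓ V)) (M := (ModSite.restr O (U ⊓ V)).obj F)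
        (N := (ModSite.restr O (U ⊓ V)).obj G)
        (restrGen F (homOfLE inf_le_left) σ) (restrGen G (homOfLE inf_le_right) τ)).π ≫
        (restrTensorIso (U ⊓ V) F G).inv :=
    SheafOfModules.GeneratingSections.ofEpi_π _ _
  rw [e]
  exact IsIso.comp_isIso' h3 inferInstance

lemma tensOverPres_isFinite {U V : Opens X} (P : SheafOfModules.Presentation (F.over U))
    (Q : SheafOfModules.Presentation (G.over V)) [P.IsFinite] [Q.IsFinite] :
    (tensOverPres F G P Q).IsFinite :=
  { isFiniteType_generators :=
      ⟨show Finite (P.generators.I × Q.generators.I) from inferInstance⟩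
    isFiniteType_relations :=
      ⟨show Finite ((P.relations.I × Q.generators.I) ⊕ (P.generators.I × Q.relations.I)) from
        inferInstance⟩ }

/-- local generators of a tensor product -/
def tensLGD (q : SheafOfModules.LocalGeneratorsData.{u} (R := ModSite.ringSh O) F)
    (q' : SheafOfModules.LocalGeneratorsData.{u} (R := ModSite.ringSh O) G) :
    SheafOfModules.LocalGeneratorsData.{u} (R := ModSite.ringSh O) (tens F G) where
  I := q.I × q'.I
  X p := q.X p.1 ⊓ q'.X p.2
  coversTop := coversTop_inf _ _ q.coversTop q'.coversTop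
  generators p := tensOverGen F G (q.generators p.1) (q'.generators p.2)

/-- quasi-coherent data of a tensor product -/
def tensQCD (q : SheafOfModules.QuasicoherentData.{u} (R := ModSite.ringSh O) F)
    (q' : SheafOfModules.QuasicoherentData.{u} (R := ModSite.ringSh O) G) :
    SheafOfModules.QuasicoherentData.{u} (R := ModSite.ringSh O) (tens F G) where
  I := q.I × q'.I
  X p := q.X p.1 ⊓ q'.X p.2
  coversTop := coversTop_inf _ _ q.coversTop q'.coversTop
  presentation p := tensOverPres F G (q.presentation p.1) (q'.presentation p.2)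

theorem tensor_permanence :
    (Nonempty (SheafOfModules.LocalGeneratorsData.{u} (R := ModSite.ringSh O) F) →
        Nonempty (SheafOfModules.LocalGeneratorsData.{u} (R := ModSite.ringSh O) G) →
          Nonempty (SheafOfModules.LocalGeneratorsData.{u} (R := ModSite.ringSh O) (tens F G))) ∧
      (SheafOfModules.IsFiniteType (R := ModSite.ringSh O) F → SheafOfModules.IsFiniteType (R := ModSite.ringSh O) G →
        SheafOfModules.IsFiniteType (R := ModSite.ringSh O) (tens F G)) ∧
      (SheafOfModules.IsQuasicoherent (R := ModSite.ringSh O) F → SheafOfModules.IsQuasicoherent (R := ModSite.ringSh O) G →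
        SheafOfModules.IsQuasicoherent (R := ModSite.ringSh O) (tens F G)) ∧
      (SheafOfModules.IsFinitePresentation (R := ModSite.ringSh O) F → SheafOfModules.IsFinitePresentation (R := ModSite.ringSh O) G →
        SheafOfModules.IsFinitePresentation (R := ModSite.ringSh O) (tens F G)) ∧
      (SheafOfModules.IsLocallyFree (R := ModSite.ringSh O) F → SheafOfModules.IsLocallyFree (R := ModSite.ringSh O) G →
        SheafOfModules.IsLocallyFree (R := ModSite.ringSh O) (tens F G)) := by
  refine ⟨?_, ?_, ?_, ?_, ?_⟩
  · rintro ⟨q⟩ ⟨q'⟩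
    exact ⟨tensLGD F G q q'⟩
  · rintro ⟨q, hq⟩ ⟨q', hq'⟩
    constructor
    refine ⟨tensLGD F G q q', ?_⟩
    constructor
    intro p
    have := hq.isFiniteType p.1
    have := hq'.isFiniteType p.2
    exact tensOverGen_isFiniteType F G (q.generators p.1) (q'.generators p.2)
  · rintro ⟨⟨q⟩⟩ ⟨⟨q'⟩⟩
    constructor
    exact ⟨tensQCD F G q q'⟩
  · rintro ⟨q, hq⟩ ⟨q', hq'⟩
    constructor
    refine ⟨tensQCD F G q q', ?_⟩
    constructor
    intro p
    have := hq.isFinite_presentation p.1
    have := hq'.isFinite_presentation p.2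
    exact tensOverPres_isFinite F G (q.presentation p.1) (q'.presentation p.2)
  · rintro ⟨q, hq⟩ ⟨q', hq'⟩
    constructor
    refine ⟨tensLGD F G q q', ?_⟩
    constructor
    intro p
    have := hq.isIso p.1
    have := hq'.isIso p.2
    exact isIso_tensOverGen_π F G (q.generators p.1) (q'.generators p.2)

end Perm

end Groth.Agent.Lib.Helper2.TensPerm
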